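import Cfsg.Agent.H1.Orders
import Cfsg.Agent.H1.Generation

set_option autoImplicit false

namespace Cfsg.Agent.H1

open Matrix
open scoped commutatorElement

variable {ι : Type*} [DecidableEq ι] [Fintype ι] {F : Type*} [Field F]

/-- Every transvection is in the derived group of `GL`. -/
lemma toGL_transvection_mem_commutator (h : 3 ≤ Fintype.card ι ∨ ∃ a : F, a ≠ 0 ∧ a ≠ 1)
    {i j : ι} (hij : i ≠ j) (c : F) :
    SpecialLinearGroup.toGL (SpecialLinearGroup.transvection hij c) ∈ commutator (GL ι F) := by
  rw [commutator_eq_closure]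
  refine Subgroup.subset_closure ?_
  rcases h with h | ⟨a, ha, ha1⟩
  · obtain ⟨x, y, hxy⟩ := transvection_mem_commutatorSet (F := F) (.inl h) hij c
    exact ⟨SpecialLinearGroup.toGL x, SpecialLinearGroup.toGL y, by
      rw [← hxy, map_commutatorElement]⟩
  · set d : GL ι F := Units.map (diagonalRingHom ι F).toMonoidHom
      (MulEquiv.piUnits.symm (Function.update (1 : ι → Fˣ) i (Units.mk0 a ha))) with hd
    set b : F := c / (a - 1) with hb
    refine ⟨d, SpecialLinearGroup.toGL (SpecialLinearGroup.transvection hij b), ?_⟩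
    have hconj : d * SpecialLinearGroup.toGL (SpecialLinearGroup.transvection hij b) =
        SpecialLinearGroup.toGL (SpecialLinearGroup.transvection hij (a * b)) * d := by
      apply Units.ext
      ext k l
      have hdv : (d : Matrix ι ι F) = diagonal (fun k => if k = i then a else 1) := by
        ext k l
        simp only [hd, Units.coe_map, RingHom.toMonoidHom_eq_coe, MonoidHom.coe_coe,
          diagonalRingHom_apply, diagonal_apply]
        by_cases hk : k = i
        · subst hk; simp
        · simp [hk]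
      change ((d : Matrix ι ι F) * (SpecialLinearGroup.transvection hij b).1) k l =
        ((SpecialLinearGroup.transvection hij (a * b)).1 * (d : Matrix ι ι F)) k l
      rw [hdv, Matrix.diagonal_mul, Matrix.mul_diagonal, SpecialLinearGroup.transvection_coe,
        SpecialLinearGroup.transvection_coe]
      simp only [Matrix.add_apply, Matrix.one_apply, Matrix.single_apply]
      by_cases hkl : k = l
      · subst hkl
        by_cases hk : i = k ∧ j = k
        · exact absurd (hk.1.trans hk.2.symm) hij
        · simp [hk]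
      · by_cases hk : i = k ∧ j = l
        · obtain ⟨rfl, rfl⟩ := hk
          simp [hij, hij.symm]
        · simp [hkl, hk]
    rw [commutatorElement_def, hconj]
    have : a * b + -b = c := by
      rw [hb]; field_simp [sub_ne_zero.2 ha1]; ring
    rw [mul_inv_cancel_right, ← map_inv, ← map_mul, SpecialLinearGroup.transvection_inv,
      ← SpecialLinearGroup.transvection_add, this]

/-- The derived group of `GL` is the kernel of `det`. -/
theorem commutator_GL_eq_ker_det (h : Fintype.card ι = 2 → ∃ a : F, a ≠ 0 ∧ a ≠ 1) :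
    commutator (GL ι F) = (GeneralLinearGroup.det : GL ι F →* Fˣ).ker := by
  refine le_antisymm (Abelianization.commutator_subset_ker _) ?_
  rw [ker_det_eq_range_toGL]
  rintro _ ⟨s, rfl⟩
  refine SL_transvection_induction (fun s => SpecialLinearGroup.toGL s ∈ commutator (GL ι F))
    ?_ ?_ ?_ s
  · rw [map_one]; exact one_mem _
  · intro i j hij c
    refine toGL_transvection_mem_commutator ?_ hij c
    have h2 : 1 < Fintype.card ι := Fintype.one_lt_card_iff.2 ⟨i, j, hij⟩
    rcases Nat.lt_or_ge (Fintype.card ι) 3 with h3 | h3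
    · exact .inr (h (by omega))
    · exact .inl h3
  · intro A B hA hB
    rw [map_mul]; exact mul_mem hA hB

/-- A cyclic quotient of index `d` is `ZMod d`. -/
noncomputable def zmodMulEquivOfIndex {G : Type*} [Group G] {H : Subgroup G} [H.Normal] {d : ℕ}
    (hidx : H.index = d) (hc : IsCyclic (G ⧸ H)) : Multiplicative (ZMod d) ≃* (G ⧸ H) :=
  hidx ▸ zmodCyclicMulEquiv hc

/-- `PGL / PSL` is cyclic of order `gcd(n, |Fˣ|)`. -/
theorem exists_PGL_to_cyclic [Finite F] [Nonempty ι] :
    ∃ g : ProjGenLinGroup ι F →* Multiplicative (ZMod (Nat.gcd (Fintype.card ι) (Nat.card Fˣ))),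
      Function.Surjective g ∧ g.ker = (ProjectiveSpecialLinearGroup.toPGL :
        ProjectiveSpecialLinearGroup ι F →* ProjGenLinGroup ι F).range := by
  set P : Subgroup Fˣ := (powMonoidHom (Fintype.card ι) : Fˣ →* Fˣ).range with hP
  have hidx : P.index = Nat.gcd (Fintype.card ι) (Nat.card Fˣ) := by
    have h1 := P.index_mul_card
    have h2 := Subgroup.index_mul_card (powMonoidHom (Fintype.card ι) : Fˣ →* Fˣ).ker
    rw [Subgroup.index_ker, IsCyclic.card_powMonoidHom_ker, ← h1, ← hP, mul_comm P.index] at h2
    rw [← Nat.eq_of_mul_eq_mul_left Nat.card_pos h2, Nat.gcd_comm, ← h1, mul_comm (Nat.card _)]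
  have hc : IsCyclic (Fˣ ⧸ P) :=
    isCyclic_of_surjective (QuotientGroup.mk' P) (QuotientGroup.mk'_surjective P)
  have e0 : Multiplicative (ZMod (Nat.gcd (Fintype.card ι) (Nat.card Fˣ))) ≃* (Fˣ ⧸ P) :=
    zmodMulEquivOfIndex hidx hc
  set φ : ProjGenLinGroup ι F →* (Fˣ ⧸ P) := ProjGenLinGroup.lift
    ((QuotientGroup.mk' P).comp GeneralLinearGroup.det) (by
      ext u
      simp only [MonoidHom.coe_comp, Function.comp_apply, QuotientGroup.mk'_apply,
        MonoidHom.one_apply, QuotientGroup.eq_one_iff, hP, MonoidHom.mem_range, powMonoidHom_apply]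
      exact ⟨u, by ext; simp⟩) with hφ
  refine ⟨e0.symm.toMonoidHom.comp φ, e0.symm.surjective.comp ?_, ?_⟩
  · intro y
    obtain ⟨r, rfl⟩ := QuotientGroup.mk'_surjective P y
    obtain ⟨A, rfl⟩ := GeneralLinearGroup.det_surjective (n := ι) r
    exact ⟨ProjGenLinGroup.mk A, rfl⟩
  · ext x
    rw [MonoidHom.mem_ker, MonoidHom.comp_apply, MulEquiv.coe_toMonoidHom,
      MulEquiv.map_eq_one_iff]
    induction x using ProjGenLinGroup.induction_on with | mk g =>
    change ((GeneralLinearGroup.det g : Fˣ) : Fˣ ⧸ P) = 1 ↔ _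
    rw [QuotientGroup.eq_one_iff, hP, MonoidHom.mem_range]
    constructor
    · rintro ⟨r, hr⟩
      have hg : g * GeneralLinearGroup.scalar ι r⁻¹ ∈ (GeneralLinearGroup.det :
          GL ι F →* Fˣ).ker := by
        rw [MonoidHom.mem_ker, map_mul, ← hr]
        ext
        simp
      rw [ker_det_eq_range_toGL] at hg
      obtain ⟨s, hs⟩ := hg
      exact ⟨s, by rw [ProjectiveSpecialLinearGroup.toPGL_mk, hs, map_mul,
        ProjGenLinGroup.mk_scalar, mul_one]⟩
    · rintro ⟨y, hy⟩
      induction y using QuotientGroup.induction_on with | H s =>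
      rw [ProjectiveSpecialLinearGroup.toPGL_mk, ProjGenLinGroup.mk_eq_mk_iff] at hy
      obtain ⟨u, hu⟩ := hy
      refine ⟨u, ?_⟩
      rw [← hu]
      ext
      simp

end Cfsg.Agent.H1
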