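import Cfsg.Agent.H1.Generation

set_option autoImplicit false

namespace Cfsg.Agent.H1

open Matrix MulAction Matrix.SpecialLinearGroup
open scoped LinearAlgebra.Projectivization

variable {ι : Type*} [DecidableEq ι] [Fintype ι] {F : Type*} [Field F]

/-- The line stabilisers generate `SL`. -/
lemma iSup_lineStab_eq_top :
    (⨆ p : ℙ F (ι → F), lineStab p.submodule) = (⊤ : Subgroup (SpecialLinearGroup ι F)) := by
  refine SL_eq_top_of_transvection_mem _ fun i j hij c => ?_
  refine Subgroup.mem_iSup_of_mem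
    (Projectivization.mk F (Pi.single i 1 : ι → F) (Pi.single_ne_zero_iff.2 one_ne_zero)) ?_
  rw [Projectivization.submodule_mk]
  exact SL2Gen.transvection_mem_lineStab hij c

/-- Iwasawa structure of `PSL` on projective space. -/
noncomputable def pslIwasawa :
    IwasawaStructure (Matrix.ProjectiveSpecialLinearGroup ι F) (ℙ F (ι → F)) where
  T := PSL.iwasawaT
  is_comm p := by
    have hSL : IsMulCommutative (lineStab (F := F) (ι := ι) p.submodule) := by
      rw [← Projectivization.mk_rep p, Projectivization.submodule_mk]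
      exact lineStab_isMulCommutative_of_span p.rep p.rep_nonzero
    exact Subgroup.map_isMulCommutative _ _
  is_conj g p := by
    obtain ⟨g_SL, rfl⟩ := QuotientGroup.mk_surjective g
    rw [Matrix.ProjectiveSpecialLinearGroup.smul_proj_mk]
    change Subgroup.map _ _ = _
    rw [PSL.smul_submodule, Matrix.SpecialLinearGroup.lineStab_smul, PSL.iwasawaT_map_conj]
  is_generator := by
    have step1 : iSup (PSL.iwasawaT (F := F) (ι := ι)) =
        Subgroup.map (QuotientGroup.mk' (Subgroup.center (Matrix.SpecialLinearGroup ι F)))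
          (⨆ p : ℙ F (ι → F), lineStab p.submodule) := by
      rw [Subgroup.map_iSup]
    rw [step1, iSup_lineStab_eq_top]
    exact Subgroup.map_top_of_surjective _ (QuotientGroup.mk'_surjective _)

/-- `PSL` is perfect. -/
lemma commutator_PSL_eq_top (h : 3 ≤ Fintype.card ι ∨ ∃ x : F, x ≠ 0 ∧ x ^ 2 ≠ 1) :
    commutator (Matrix.ProjectiveSpecialLinearGroup ι F) = ⊤ := by
  have : Group.IsPerfect (SpecialLinearGroup ι F) := ⟨commutator_SL_eq_top h⟩
  have : Group.IsPerfect (Matrix.ProjectiveSpecialLinearGroup ι F) := inferInstance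
  exact this.commutator_eq_top

/-- `PSL_n(F)` is simple for `n ≥ 2` except `PSL_2(2)` and `PSL_2(3)`. -/
theorem isSimpleGroup_PSL [Nontrivial ι]
    (h : 3 ≤ Fintype.card ι ∨ ∃ x : F, x ≠ 0 ∧ x ^ 2 ≠ 1) :
    IsSimpleGroup (Matrix.ProjectiveSpecialLinearGroup ι F) :=
  IwasawaStructure.isSimpleGroup (commutator_PSL_eq_top h) pslIwasawa inferInstance

/-- `PSL_n(F)` is simple for `n ≥ 3`. -/
theorem isSimpleGroup_PSL_of_three_le (n : ℕ) (hn : 3 ≤ n) :
    IsSimpleGroup (Matrix.ProjectiveSpecialLinearGroup (Fin n) F) := by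
  have : Nontrivial (Fin n) := Fin.nontrivial_iff_two_le.2 (by omega)
  exact isSimpleGroup_PSL (.inl (by simpa using hn))

end Cfsg.Agent.H1
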