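import Cfsg.Agent.H1.Orders

set_option autoImplicit false

namespace Cfsg.Agent.H1

open Matrix
open scoped LinearAlgebra.Projectivization

variable {F : Type*} [Field F]

/-- Any three distinct points of the projective line are the image of `e₀, e₁, e₀+e₁`. -/
lemma exists_GL_frame (a b c : ℙ F (Fin 2 → F)) (hab : a ≠ b) (hac : a ≠ c) (hbc : b ≠ c) :
    ∃ g : GL (Fin 2) F,
      g • Projectivization.mk F ![(1 : F), 0] (by simp) = a ∧
      g • Projectivization.mk F ![(0 : F), 1] (by simp) = b ∧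
      g • Projectivization.mk F ![(1 : F), 1] (by simp) = c := by
  have hli : LinearIndependent F ![a.rep, b.rep] := Projectivization.linearIndependent_pair_iff_ne.2 hab
  set B := basisOfLinearIndependentOfCardEqFinrank hli (by simp) with hB
  have hB0 : B 0 = a.rep := by simp [hB]
  have hB1 : B 1 = b.rep := by simp [hB]
  set s := B.repr c.rep 0
  set t := B.repr c.rep 1
  have hsum : s • a.rep + t • b.rep = c.rep := by
    have := B.sum_repr c.rep
    rw [Fin.sum_univ_two, hB0, hB1] at this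
    exact this
  have hs : s ≠ 0 := by
    intro h0
    apply hbc
    rw [h0, zero_smul, zero_add] at hsum
    rw [← b.mk_rep, ← c.mk_rep, Projectivization.mk_eq_mk_iff']
    have ht : t ≠ 0 := fun h => c.rep_nonzero (by rw [← hsum, h, zero_smul])
    exact ⟨t⁻¹, by rw [← hsum, smul_smul, inv_mul_cancel₀ ht, one_smul]⟩
  have ht : t ≠ 0 := by
    intro h0
    apply hac
    rw [h0, zero_smul, add_zero] at hsum
    rw [← a.mk_rep, ← c.mk_rep, Projectivization.mk_eq_mk_iff']
    exact ⟨s⁻¹, by rw [← hsum, smul_smul, inv_mul_cancel₀ hs, one_smul]⟩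
  let M : Matrix (Fin 2) (Fin 2) F := Matrix.of fun i j => (![s • a.rep, t • b.rep] j) i
  have hM : M.det ≠ 0 := by
    have hli' : LinearIndependent F ![s • a.rep, t • b.rep] := by
      rw [LinearIndependent.pair_iff] at hli ⊢
      intro x y hxy
      rw [smul_smul, smul_smul] at hxy
      obtain ⟨h1, h2⟩ := hli _ _ hxy
      exact ⟨(mul_eq_zero.1 h1).resolve_right hs, (mul_eq_zero.1 h2).resolve_right ht⟩
    have : IsUnit M := Matrix.linearIndependent_cols_iff_isUnit.1 hli'
    exact (M.isUnit_iff_isUnit_det.1 this).ne_zero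
  set g : GL (Fin 2) F := GeneralLinearGroup.mkOfDetNeZero M hM with hg
  have hgv : ∀ v : Fin 2 → F, g • v = v 0 • (s • a.rep) + v 1 • (t • b.rep) := by
    intro v
    change M *ᵥ v = _
    ext i
    simp [M, Matrix.mulVec, dotProduct, Fin.sum_univ_two]
    ring
  refine ⟨g, ?_, ?_, ?_⟩
  · rw [Projectivization.smul_mk, ← a.mk_rep, Projectivization.mk_eq_mk_iff']
    exact ⟨s, by rw [hgv]; simp⟩
  · rw [Projectivization.smul_mk, ← b.mk_rep, Projectivization.mk_eq_mk_iff']
    exact ⟨t, by rw [hgv]; simp⟩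
  · rw [Projectivization.smul_mk, ← c.mk_rep, Projectivization.mk_eq_mk_iff']
    exact ⟨1, by rw [hgv]; simp [hsum]⟩

/-- The standard frame is fixed only by scalars. -/
lemma GL_fix_frame_mem_center {g : GL (Fin 2) F}
    (h0 : g • Projectivization.mk F ![(1 : F), 0] (by simp) = Projectivization.mk F ![(1 : F), 0] (by simp))
    (h1 : g • Projectivization.mk F ![(0 : F), 1] (by simp) = Projectivization.mk F ![(0 : F), 1] (by simp))
    (h2 : g • Projectivization.mk F ![(1 : F), 1] (by simp) = Projectivization.mk F ![(1 : F), 1] (by simp)) :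
    g ∈ Subgroup.center (GL (Fin 2) F) := by
  rw [Projectivization.smul_mk, Projectivization.mk_eq_mk_iff'] at h0 h1 h2
  obtain ⟨x, hx⟩ := h0
  obtain ⟨y, hy⟩ := h1
  obtain ⟨z, hz⟩ := h2
  have hg : ∀ v : Fin 2 → F, g • v = (g : Matrix (Fin 2) (Fin 2) F) *ᵥ v := fun v => rfl
  rw [hg] at hx hy hz
  have e00 := congrFun hx 0
  have e10 := congrFun hx 1
  have e01 := congrFun hy 0
  have e11 := congrFun hy 1
  have f0 := congrFun hz 0
  have f1 := congrFun hz 1
  simp [Matrix.mulVec, dotProduct, Fin.sum_univ_two] at e00 e10 e01 e11 f0 f1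
  rw [GeneralLinearGroup.mem_center_iff_val_mem_range_scalar]
  refine ⟨x, ?_⟩
  have hxy : x = y := by linear_combination e00 - e11 + f1 - f0 - e10 + e01
  ext i j
  fin_cases i <;> fin_cases j <;> simp [← e00, ← e11, ← e10, ← e01, hxy]

/-- `PGL₂` is sharply 3-transitive on the projective line. -/
theorem PGL_two_sharply_three_transitive :
    MulAction.IsMultiplyPretransitive (ProjGenLinGroup (Fin 2) F) (ℙ F (Fin 2 → F)) 3 ∧
      ∀ (g : ProjGenLinGroup (Fin 2) F) (a b c : ℙ F (Fin 2 → F)), a ≠ b → a ≠ c → b ≠ c →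
        g • a = a → g • b = b → g • c = c → g = 1 := by
  constructor
  · constructor
    intro x y
    have hx : ∀ {i j : Fin 3}, i ≠ j → x i ≠ x j := fun hij h => hij (x.injective h)
    have hy : ∀ {i j : Fin 3}, i ≠ j → y i ≠ y j := fun hij h => hij (y.injective h)
    obtain ⟨g, ga, gb, gc⟩ := exists_GL_frame (x 0) (x 1) (x 2) (hx (by decide)) (hx (by decide))
      (hx (by decide))
    obtain ⟨h, ha, hb, hc⟩ := exists_GL_frame (y 0) (y 1) (y 2) (hy (by decide)) (hy (by decide))
      (hy (by decide))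
    refine ⟨ProjGenLinGroup.mk (h * g⁻¹), ?_⟩
    ext i
    simp only [Function.Embedding.smul_apply]
    change (h * g⁻¹) • x i = y i
    fin_cases i <;> simp only [Fin.zero_eta, Fin.mk_one, Fin.reduceFinMk, mul_smul]
    · rw [← ga, inv_smul_smul, ha]
    · rw [← gb, inv_smul_smul, hb]
    · rw [← gc, inv_smul_smul, hc]
  · intro g a b c hab hac hbc h1 h2 h3
    induction g using ProjGenLinGroup.induction_on with | mk g =>
    change g • a = a at h1
    change g • b = b at h2
    change g • c = c at h3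
    obtain ⟨k, ka, kb, kc⟩ := exists_GL_frame a b c hab hac hbc
    have hc' : k⁻¹ * g * k ∈ Subgroup.center (GL (Fin 2) F) := by
      refine GL_fix_frame_mem_center ?_ ?_ ?_ <;> rw [mul_smul, mul_smul]
      · rw [ka, h1, ← ka, inv_smul_smul]
      · rw [kb, h2, ← kb, inv_smul_smul]
      · rw [kc, h3, ← kc, inv_smul_smul]
    rw [ProjGenLinGroup.mk_eq_one]
    have := (inferInstance : (Subgroup.center (GL (Fin 2) F)).Normal).conj_mem _ hc' k
    simpa [mul_assoc] using this

/-- `SL₂` is 3-transitive on the projective line iff every unit is a square. -/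
theorem SL_two_three_pretransitive_iff :
    MulAction.IsMultiplyPretransitive (SpecialLinearGroup (Fin 2) F) (ℙ F (Fin 2 → F)) 3 ↔
      ∀ u : F, IsSquare u := by
  constructor
  · intro h u
    rcases eq_or_ne u 0 with rfl | hu
    · exact IsSquare.zero
    let P0 : ℙ F (Fin 2 → F) := Projectivization.mk F ![(1 : F), 0] (by simp)
    let P1 : ℙ F (Fin 2 → F) := Projectivization.mk F ![(0 : F), 1] (by simp)
    let P2 : F → ℙ F (Fin 2 → F) := fun w => Projectivization.mk F ![(1 : F), w] (by simp)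
    have h01 : P0 ≠ P1 := by simp [P0, P1, Projectivization.mk_eq_mk_iff', funext_iff, Fin.forall_fin_two]
    have h02 : ∀ w, w ≠ 0 → P0 ≠ P2 w := fun w hw => by
      simp [P0, P2, Projectivization.mk_eq_mk_iff', funext_iff, Fin.forall_fin_two, hw]
    have h12 : ∀ w, w ≠ 0 → P1 ≠ P2 w := fun w hw => by
      simp [P1, P2, Projectivization.mk_eq_mk_iff', funext_iff, Fin.forall_fin_two, hw]
    let emb : ∀ w : F, w ≠ 0 → (Fin 3 ↪ ℙ F (Fin 2 → F)) := fun w hw =>
      ⟨![P0, P1, P2 w], by
        intro i j hij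
        fin_cases i <;> fin_cases j <;>
          simp_all [h01, h01.symm, h02 w hw, (h02 w hw).symm, h12 w hw, (h12 w hw).symm]⟩
    obtain ⟨g, hg⟩ := h.exists_smul_eq (emb 1 one_ne_zero) (emb u hu)
    have g0 : g • P0 = P0 := DFunLike.congr_fun hg 0
    have g1 : g • P1 = P1 := DFunLike.congr_fun hg 1
    have g2 : g • P2 1 = P2 u := DFunLike.congr_fun hg 2
    simp only [P0, P1, P2, Projectivization.smul_mk, Projectivization.mk_eq_mk_iff'] at g0 g1 g2
    obtain ⟨x, hx⟩ := g0
    obtain ⟨y, hy⟩ := g1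
    obtain ⟨z, hz⟩ := g2
    change _ = (g : Matrix (Fin 2) (Fin 2) F) *ᵥ _ at hx hy hz
    have e00 := congrFun hx 0
    have e10 := congrFun hx 1
    have e01 := congrFun hy 0
    have e11 := congrFun hy 1
    have f0 := congrFun hz 0
    have f1 := congrFun hz 1
    simp [Matrix.mulVec, dotProduct, Fin.sum_univ_two] at e00 e10 e01 e11 f0 f1
    have hd := g.2
    rw [Matrix.det_fin_two, ← e00, ← e11, ← e10, ← e01] at hd
    refine ⟨y, ?_⟩
    linear_combination -u * hd + y * (u * (e00 - f0 + e01) + (f1 - e11 - e10))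
  · intro hsq
    constructor
    intro x y
    obtain ⟨g, hg⟩ := (PGL_two_sharply_three_transitive (F := F)).1.exists_smul_eq x y
    induction g using ProjGenLinGroup.induction_on with | mk g =>
    obtain ⟨r, hr⟩ := hsq ((g : Matrix (Fin 2) (Fin 2) F).det)⁻¹
    have hd := GeneralLinearGroup.det_ne_zero g
    have hr0 : r ≠ 0 := fun h0 => by simp [h0, hd] at hr
    set G : SpecialLinearGroup (Fin 2) F := ⟨r • (g : Matrix (Fin 2) (Fin 2) F), by
      rw [Matrix.det_smul, Fintype.card_fin, sq, ← hr, inv_mul_cancel₀ hd]⟩ with hG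
    refine ⟨G, ?_⟩
    ext i
    have hgi := DFunLike.congr_fun hg i
    simp only [Function.Embedding.smul_apply] at hgi ⊢
    rw [← hgi]
    change G • x i = g • x i
    obtain ⟨v, hv, hxi⟩ : ∃ v, ∃ hv : v ≠ 0, x i = Projectivization.mk F v hv :=
      ⟨_, _, ((x i).mk_rep).symm⟩
    rw [hxi, Projectivization.smul_mk, Projectivization.smul_mk, Projectivization.mk_eq_mk_iff']
    refine ⟨r, ?_⟩
    change r • ((g : Matrix (Fin 2) (Fin 2) F) *ᵥ v) = (r • (g : Matrix (Fin 2) (Fin 2) F)) *ᵥ v
    rw [Matrix.smul_mulVec]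

end Cfsg.Agent.H1
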